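/-
Binary affine permutation groups: the basic extension lemmas.
-/
import Cfsg.Agent.Lib.Invol.Basic

set_option autoImplicit false

namespace Cfsg.Lib.BinAff

variable {G V : Type*} [Group G] [AddCommGroup V] [DistribMulAction G V]

variable (G V) in
/-- One-point extension property of a binary affine group. -/
def Ext : Prop := ∀ (C : Set V) (x y : V), (∃ g : G, g • x = y) → (∀ c ∈ C, ∃ g : G, g • (x - c) = y - c) →
  ∃ h : G, h • x = y ∧ ∀ c ∈ C, h • c = c

variable (V) in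
/-- The fixed space. -/
def W (t : G) : AddSubgroup V where
  carrier := {v | t • v = v}
  add_mem' {a b} ha hb := by simp only [Set.mem_setOf_eq] at *; rw [smul_add, ha, hb]
  zero_mem' := smul_zero t
  neg_mem' {a} ha := by simp only [Set.mem_setOf_eq] at *; rw [smul_neg, ha]

variable (V) in
/-- The displacement map. -/
def δ (t : G) : V →+ V where
  toFun v := v - t • v
  map_zero' := by simp
  map_add' a b := by rw [smul_add]; abel

variable (V) in
/-- The commutator space. -/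
def U (t : G) : AddSubgroup V := (δ V t).range

theorem mem_W {t : G} {v : V} : v ∈ W V t ↔ t • v = v := Iff.rfl
theorem mem_U {t : G} {u : V} : u ∈ U V t ↔ ∃ v, v - t • v = u := Iff.rfl
theorem δ_apply (t : G) (v : V) : δ V t v = v - t • v := rfl
theorem δ_mem (t : G) (v : V) : v - t • v ∈ U V t := ⟨v, rfl⟩
theorem ker_δ (t : G) : (δ V t).ker = W V t := by
  ext v; rw [AddMonoidHom.mem_ker, δ_apply, sub_eq_zero, mem_W, eq_comm]

variable (V) in
/-- Elements with maximal fixed space. -/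
def Mx (t : G) : Prop := t ≠ 1 ∧ ∀ h : G, h ≠ 1 → W V t ≤ W V h → W V h ≤ W V t

theorem smul_mem_W {g t : G} {v : V} : g • v ∈ W V (g * t * g⁻¹) ↔ v ∈ W V t := by
  simp [mem_W, mul_smul]

theorem smul_mem_U {g t : G} {v : V} (h : v ∈ U V t) : g • v ∈ U V (g * t * g⁻¹) := by
  obtain ⟨v, rfl⟩ := mem_U.1 h
  exact mem_U.2 ⟨g • v, by simp [mul_smul, smul_sub]⟩

theorem Mx.conj {t : G} (ht : Mx V t) (g : G) : Mx V (g * t * g⁻¹) := by
  refine ⟨by simpa using ht.1, fun h h1 h2 v hv => ?_⟩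
  have := ht.2 (g⁻¹ * h * g⁻¹⁻¹) (mt conj_eq_one_iff.1 h1) (fun w hw => by
    have := h2 ((smul_mem_W (g := g)).2 hw)
    rwa [← smul_mem_W (g := g⁻¹), inv_smul_smul] at this) ((smul_mem_W (g := g⁻¹)).2 hv)
  rwa [← smul_mem_W (g := g), smul_inv_smul] at this

theorem exists_mx [Finite G] [Finite V] {h : G} (h1 : h ≠ 1) : ∃ t : G, Mx V t ∧ W V h ≤ W V t := by
  obtain ⟨t, ht, hm⟩ := Set.exists_max_image {k : G | k ≠ 1 ∧ W V h ≤ W V k} (fun k => Nat.card (W V k)) (Set.toFinite _)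
    ⟨h, h1, le_rfl⟩
  exact ⟨t, ⟨ht.1, fun k hk e => (AddSubgroup.eq_of_le_of_card_ge e (hm k ⟨hk, ht.2.trans e⟩)).ge⟩, ht.2⟩

theorem neg_of_mem_U {t : G} (ht : t * t = 1) {u : V} (hu : u ∈ U V t) : t • u = -u := by
  obtain ⟨v, rfl⟩ := mem_U.1 hu
  rw [smul_sub, ← mul_smul, ht, one_smul, neg_sub]

theorem eq_one_of [FaithfulSMul G V] {g : G} (h : ∀ v : V, g • v = v) : g = 1 :=
  eq_of_smul_eq_smul (α := V) fun v => by rw [h, one_smul]

theorem exists_ne [FaithfulSMul G V] {g : G} (h : g ≠ 1) : ∃ v : V, g • v ≠ v := by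
  by_contra h'
  exact h (eq_one_of (V := V) (by simpa using h'))

theorem exists_mem_U [FaithfulSMul G V] {g : G} (h : g ≠ 1) : ∃ u ∈ U V g, u ≠ 0 := by
  obtain ⟨v, hv⟩ := exists_ne (V := V) h
  exact ⟨_, δ_mem g v, sub_ne_zero.2 hv.symm⟩

variable (H : Ext G V)
include H

theorem swap (g : G) (v : V) : ∃ h : G, h • v = g • v ∧ h • g • v = v ∧ W V g ≤ W V h := by
  obtain ⟨h, h1, h2⟩ := H (insert (v + g • v) (W V g)) v (g • v) ⟨g, rfl⟩ (by
    rintro c (rfl | hc)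
    · exact ⟨g⁻¹, by simp⟩
    · exact ⟨g, by rw [smul_sub, mem_W.1 hc]⟩)
  refine ⟨h, h1, ?_, fun c hc => h2 c (Or.inr hc)⟩
  have := h2 _ (Or.inl rfl)
  rw [smul_add, h1, add_comm] at this
  exact add_right_cancel this

theorem refl4 (g : G) (v : V) : ∃ h : G, h • g • v = g • v ∧ h • v = (g * g) • v ∧ W V (g * g) ≤ W V h := by
  obtain ⟨h, h1, h2⟩ := H (insert (-(g • v)) (W V (g * g))) v ((g * g) • v) ⟨_, rfl⟩ (by
    rintro c (rfl | hc)
    · exact ⟨g, by simp [mul_smul, add_comm]⟩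
    · exact ⟨g * g, by rw [smul_sub, mem_W.1 hc]⟩)
  exact ⟨h, by simpa using h2 _ (Or.inl rfl), h1, fun c hc => h2 c (Or.inr hc)⟩

theorem four_eq {g : G} {a y : V} (h1 : g • a = a + y) (h2 : g • y = y) : y + y = 0 := by
  obtain ⟨h, e1, e2, e3⟩ := swap H g a
  rw [h1, smul_add, e1, h1, mem_W.1 (e3 h2), add_assoc] at e2
  simpa using e2

theorem Mx.le_of {t h : G} (ht : Mx V t) {v : V} (e : h • v = t • v) (hv : v ∉ W V t) : W V h ≤ W V t := fun x hx => by
  obtain ⟨k, h1, h2⟩ := H (insert x (W V t)) v (t • v) ⟨t, rfl⟩ (by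
    rintro c (rfl | hc)
    · exact ⟨h, by rw [smul_sub, e, mem_W.1 hx]⟩
    · exact ⟨t, by rw [smul_sub, mem_W.1 hc]⟩)
  exact ht.2 k (by rintro rfl; exact hv (by simpa [mem_W] using h1.symm)) (fun c hc => h2 c (Or.inr hc)) (h2 x (Or.inl rfl))

theorem Mx.ti {s t : G} (hs : Mx V s) (ht : Mx V t) {u : V} (h1 : u ∈ U V s) (h2 : u ∈ U V t) (h0 : u ≠ 0) : s = t := by
  obtain ⟨v, e1⟩ := mem_U.1 h1
  obtain ⟨v', e2⟩ := mem_U.1 h2
  obtain ⟨h, a1, a2⟩ := H {v - v'} v (s • v) ⟨s, rfl⟩ (by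
    rintro c rfl
    exact ⟨t, by rw [sub_sub_cancel]; linear_combination (norm := abel1) e1 - e2⟩)
  have b1 : v ∉ W V s := fun h => h0 (by rw [← e1, mem_W.1 h, sub_self])
  have b2 : v' ∉ W V t := fun h => h0 (by rw [← e2, mem_W.1 h, sub_self])
  have b3 : s • (v - v') = v - v' := hs.le_of H a1 b1 (a2 _ rfl)
  have b4 : s • v' = t • v' := by rw [smul_sub] at b3; linear_combination (norm := abel1) e2 - e1 - b3
  have b5 := ht.le_of H b4 b2
  have b6 := hs.le_of H b4.symm (fun h => b2 (b5 h))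
  by_contra hne
  refine b2 (ht.2 (t⁻¹ * s) (fun h => hne (inv_mul_eq_one.1 h).symm) (fun w hw => ?_) ?_)
  · rw [mem_W, mul_smul, mem_W.1 (b6 hw), inv_smul_eq_iff, mem_W.1 hw]
  · rw [mem_W, mul_smul, b4, inv_smul_smul]

theorem Mx.comm {t g : G} (ht : Mx V t) {u : V} (h1 : u ∈ U V t) (h2 : g • u ∈ U V t) (h0 : u ≠ 0) : g * t = t * g :=
  mul_inv_eq_iff_eq_mul.1 ((ht.conj g).ti H ht (smul_mem_U h1) h2 (mt (smul_eq_zero_iff_eq g).1 h0))

theorem fix_two (h2 : ∀ v : V, v + v = 0) {t g : G} (ht : t * t = 1) (hc : g * t = t * g) {u : V} (hu : u ∈ U V t) :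
    g • u = u := by
  obtain ⟨v, rfl⟩ := mem_U.1 hu
  have hn : ∀ v : V, -v = v := fun v => neg_eq_of_add_eq_zero_left (h2 v)
  have e1 : t • t • v = v := by rw [← mul_smul, ht, one_smul]
  have e2 : g • t • v = t • g • v := by rw [← mul_smul, hc, mul_smul]
  have e3 : t • t • g • v = g • v := by rw [← mul_smul, ht, one_smul]
  obtain ⟨h, a1, a2⟩ := H {v - t • v, g • v - v} (v - t • g • v) (g • v - t • v)
    ⟨t, by rw [smul_sub, e3, ← hn (_ - _), neg_sub]⟩ (by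
    rintro c (rfl | rfl)
    · exact ⟨t, by rw [smul_sub, smul_sub, smul_sub, e1, e3]; linear_combination (norm := abel1) h2 v - h2 (g • v)⟩
    · exact ⟨g⁻¹, by
        rw [inv_smul_eq_iff, show g • v - t • v - (g • v - v) = v - t • v by abel, smul_sub, e2]
        linear_combination (norm := abel1) h2 v - h2 (g • v)⟩)
  have a3 : h • (g • v - t • v) = g • v - t • v := by
    have : g • v - t • v = (v - t • v) + (g • v - v) := by abel
    rw [this, smul_add, a2 _ (Or.inl rfl), a2 _ (Or.inr rfl)]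
  have a4 := MulAction.injective h (a1.trans a3.symm)
  rw [smul_sub, e2]
  linear_combination (norm := abel1) a4 + h2 (g • v) - h2 v + h2 (v - t • v) - h2 (v - t • v)

variable [FaithfulSMul G V]

theorem Mx.sq {t : G} (ht : Mx V t) : t * t = 1 := eq_one_of (V := V) fun v => by
  by_cases hv : v ∈ W V t
  · rw [mul_smul, mem_W.1 hv, mem_W.1 hv]
  obtain ⟨h, e1, e2, e3⟩ := swap H t v
  have := ht.2 h (by rintro rfl; exact hv (by simpa [mem_W] using e1.symm)) e3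
    (show h • (v + t • v) = v + t • v by rw [smul_add, e1, e2, add_comm])
  rw [mem_W, smul_add, add_comm] at this
  rw [mul_smul]; exact add_right_cancel this

theorem Mx.inv {t : G} (ht : Mx V t) : t⁻¹ = t := inv_eq_of_mul_eq_one_right (ht.sq H)

theorem Mx.ne_sq {t : G} (ht : Mx V t) (g : G) : g * g ≠ t := by
  rintro rfl
  obtain ⟨v, hv⟩ := exists_ne (V := V) ht.1
  obtain ⟨h, e1, e2, e3⟩ := refl4 H g v
  have := ht.2 h (by rintro rfl; exact hv (by simpa using e2.symm)) e3 e1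
  rw [mem_W, ← mul_smul, mul_assoc, mul_smul] at this
  exact hv (MulAction.injective g this)

theorem Mx.comm_of_le {s t : G} (hs : Mx V s) (ht : Mx V t) (h : W V s ≤ W V t) : s * t = t * s := by
  have h' := hs.2 t ht.1 h
  have e : ∀ v ∈ W V s, v ∈ W V (s * t) := fun v hv => by rw [mem_W, mul_smul, mem_W.1 (h hv), mem_W.1 hv]
  have : s * t * (s * t) = 1 := by
    by_cases h1 : s * t = 1
    · rw [h1, one_mul]
    · exact Mx.sq H ⟨h1, fun k hk hk' => (hs.2 k hk fun v hv => hk' (e v hv)).trans e⟩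
  rw [← inv_eq_of_mul_eq_one_right this, mul_inv_rev, hs.inv H, ht.inv H]

theorem Mx.zero_odd (h2 : ∀ v : V, v + v = 0 → v = 0) {t : G} (ht : Mx V t) {u : V} (h1 : u ∈ U V t) (h : u ∈ W V t) :
    u = 0 := h2 u (by have := neg_of_mem_U (ht.sq H) h1; rw [mem_W.1 h] at this; linear_combination (norm := abel1) this)

theorem Mx.fix_odd (h2 : ∀ v : V, v + v = 0 → v = 0) {t k : G} (ht : Mx V t) {u : V} (h1 : u ∈ U V t) (h0 : u ≠ 0)
    (hk : u ∈ W V k) : U V t ≤ W V k := fun d hd => by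
  by_contra hne
  obtain ⟨h, e1, e2, e3⟩ := swap H k d
  have c := ht.comm H h1 (g := k) (by rwa [mem_W.1 hk]) h0
  have h3 : d - k • d ∈ U V t := sub_mem hd (by simpa [c] using smul_mem_U (g := k) hd)
  refine h0 (ht.zero_odd H h2 h1 (ht.le_of H (h := h) (v := d - k • d) ?_ (fun h4 => hne ?_) (e3 hk)))
  · rw [neg_of_mem_U (ht.sq H) h3, smul_sub, e1, e2, neg_sub]
  · exact (sub_eq_zero.1 (ht.zero_odd H h2 h3 h4)).symm

theorem Mx.pm_odd (h2 : ∀ v : V, v + v = 0 → v = 0) {t g : G} (ht : Mx V t) (c : g * t = t * g) :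
    U V t ≤ W V g ∨ U V t ≤ W V (t * g) := by
  refine or_iff_not_imp_left.2 fun hn u hu => ?_
  by_cases h0 : u = 0
  · rw [h0]; exact zero_mem _
  have h3 : g • u ∈ U V t := by simpa [c] using smul_mem_U (g := g) hu
  obtain ⟨h, e1, e2, -⟩ := swap H g u
  rw [mem_W, mul_smul, neg_of_mem_U (ht.sq H) h3, neg_eq_iff_add_eq_zero, add_comm]
  by_contra h4
  have := ht.fix_odd H h2 (add_mem hu h3) h4 (k := h) (by rw [mem_W, smul_add, e1, e2, add_comm]) hu
  exact hn (ht.fix_odd H h2 hu h0 (e1.symm.trans this))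

/-- The two cases for the characteristic. -/
theorem Mx.fix (h2 : (∀ v : V, v + v = 0) ∨ ∀ v : V, v + v = 0 → v = 0) {t k : G} (ht : Mx V t) {u : V} (h1 : u ∈ U V t)
    (h0 : u ≠ 0) (hk : u ∈ W V k) : U V t ≤ W V k := by
  rcases h2 with h2 | h2
  · exact fun d hd => fix_two H h2 (ht.sq H) (ht.comm H h1 (by rwa [mem_W.1 hk]) h0) hd
  · exact ht.fix_odd H h2 h1 h0 hk

theorem Mx.zero_nc {s t : G} (ht : Mx V t) (hn : s * t ≠ t * s) {u : V} (h1 : u ∈ U V t) (h : u ∈ W V s) : u = 0 :=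
  by_contra fun h0 => hn (ht.comm H h1 (by rwa [mem_W.1 h]) h0)

theorem pencil [Finite G] [Finite V] {s t : G} (hs : Mx V s) (ht : Mx V t) (hn : s * t ≠ t * s) (y : V) :
    ∃ a : G, Mx V a ∧ W V s ⊓ W V t ≤ W V a ∧ y ∈ W V a := by
  by_cases hy : y ∈ W V s ⊓ W V t
  · exact ⟨s, hs, inf_le_left, hy.1⟩
  have key : ∀ x ∈ W V s, t • x ∈ W V s → x ∈ W V t := fun x h1 h2 =>
    (sub_eq_zero.1 (ht.zero_nc H hn (δ_mem t x) (sub_mem h1 h2))).symm
  have k2 : W V (s * t * (s * t)) ≤ W V s ⊓ W V t := fun x hx => by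
    have e : (t * s * t⁻¹) • x = s • x := by
      rw [mem_W, mul_assoc, mul_smul, smul_eq_iff_eq_inv_smul, hs.inv H, ← mul_assoc] at hx
      rwa [ht.inv H]
    have h1 : x ∈ W V s := by_contra fun h1 => hn (hs.comm_of_le H ht fun w hw =>
      key w hw (hs.le_of H e h1 ((smul_mem_W (g := t)).2 hw)))
    refine ⟨h1, key x h1 ?_⟩
    rw [← smul_mem_W (g := t), ← mul_smul, ht.sq H, one_smul, mem_W, e]
    exact h1
  have k3 : W V s ⊓ W V t ≤ W V (s * t * (s * t)) := fun x hx => by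
    simp only [mem_W, mul_smul, mem_W.1 hx.1, mem_W.1 hx.2]
  obtain ⟨h, e1, e2, e3⟩ := refl4 H (s * t) ((s * t)⁻¹ • y)
  rw [smul_inv_smul] at e1
  obtain ⟨a, ha, e4⟩ := exists_mx (V := V) (h := h) (by
    rintro rfl
    refine hy (k2 ?_)
    generalize s * t = g at e2 ⊢
    rw [one_smul, inv_smul_eq_iff, ← mul_smul, ← mul_smul, show g * (g * g) * g⁻¹ = g * g by group] at e2
    exact e2.symm)
  exact ⟨a, ha, (k3.trans e3).trans e4, e4 e1⟩

end Cfsg.Lib.BinAff
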