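/-
Binary affine permutation groups: two non-commuting reflections have no common fixed vector.
-/
import Cfsg.Agent.Lib.BinAff.A
import Cfsg.Agent.Lib.Friend.Graph

set_option autoImplicit false

namespace Cfsg.Lib.BinAff

theorem idx_inf {V : Type*} [AddCommGroup V] {A B : AddSubgroup V} (h : A ⊔ B = ⊤) : (A ⊓ B).index = A.index * B.index := by
  rw [← AddSubgroup.relIndex_mul_index (inf_le_right : A ⊓ B ≤ B), AddSubgroup.inf_relIndex_right,
    ← AddSubgroup.relIndex_sup_left, h, AddSubgroup.relIndex_top_right]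

theorem eq_of_idx {V : Type*} [AddCommGroup V] [Finite V] {A B : AddSubgroup V} (h : A ≤ B) (e : A.index ≤ B.index) : A = B := by
  have h1 := AddSubgroup.relIndex_mul_index h
  have h2 : 0 < B.index := Nat.pos_of_ne_zero AddSubgroup.index_ne_zero_of_finite
  have h3 : 0 < A.index := Nat.pos_of_ne_zero AddSubgroup.index_ne_zero_of_finite
  refine le_antisymm h (AddSubgroup.relIndex_eq_one.1 ?_)
  rcases Nat.lt_trichotomy (A.relIndex B) 1 with h4 | h4 | h4
  · rw [Nat.lt_one_iff.1 h4] at h1; omega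
  · exact h4
  · nlinarith

variable {G V : Type*} [Group G] [AddCommGroup V] [DistribMulAction G V]

variable (V) in
/-- `U s ⊕ U t` meets the common fixed space trivially. -/
def Gd (s t : G) : Prop := ∀ a ∈ U V s, ∀ b ∈ U V t, a + b ∈ W V s → a + b ∈ W V t → a = 0 ∧ b = 0

theorem Gd.surj [Finite V] {s t : G} (h : Gd V s t) {a b : V} (ha : a ∈ U V s) (hb : b ∈ U V t) :
    ∃ a' ∈ U V s, ∃ b' ∈ U V t, a' + b' - s • (a' + b') = a ∧ a' + b' - t • (a' + b') = b := by
  let f : U V s × U V t →+ U V s × U V t :=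
    ((δ V s).rangeRestrict.prod (δ V t).rangeRestrict).comp ((U V s).subtype.coprod (U V t).subtype)
  have h1 : Function.Injective f := (injective_iff_map_eq_zero f).2 fun x hx => by
    have h2 : (x.1 : V) + x.2 - s • ((x.1 : V) + x.2) = 0 := congrArg (fun y => (y.1 : V)) hx
    have h3 : (x.1 : V) + x.2 - t • ((x.1 : V) + x.2) = 0 := congrArg (fun y => (y.2 : V)) hx
    have := h _ x.1.2 _ x.2.2 (sub_eq_zero.1 h2).symm (sub_eq_zero.1 h3).symm
    exact Prod.ext (Subtype.ext this.1) (Subtype.ext this.2)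
  obtain ⟨x, hx⟩ := Finite.surjective_of_injective h1 (⟨a, ha⟩, ⟨b, hb⟩)
  exact ⟨_, x.1.2, _, x.2.2, congrArg (fun y => (y.1 : V)) hx, congrArg (fun y => (y.2 : V)) hx⟩

theorem mem_W_of_δ {s : G} {v y : V} (h : y - s • y = v - s • v) : v - y ∈ W V s := by
  rw [mem_W, smul_sub]; linear_combination (norm := abel1) h

theorem Gd.top [Finite V] {s t : G} (h : Gd V s t) {M : AddSubgroup V} (h1 : W V s ⊓ W V t ≤ M) (h2 : U V s ≤ M)
    (h3 : U V t ≤ M) : M = ⊤ := eq_top_iff.2 fun v _ => by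
  obtain ⟨a, ha, b, hb, e1, e2⟩ := h.surj (δ_mem s v) (δ_mem t v)
  simpa using add_mem (h1 ⟨mem_W_of_δ e1, mem_W_of_δ e2⟩) (add_mem (h2 ha) (h3 hb))

theorem Gd.idx [Finite V] {s t : G} (h : Gd V s t) : (W V s ⊓ W V t).index = (W V s).index * (W V t).index := by
  refine idx_inf (eq_top_iff.2 fun v _ => ?_)
  obtain ⟨a, -, b, -, e1, e2⟩ := h.surj (δ_mem s v) (zero_mem _)
  simpa using AddSubgroup.add_mem_sup (mem_W_of_δ e1) (show a + b ∈ W V t from (sub_eq_zero.1 e2).symm)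

theorem idx_W (t : G) : (W V t).index = Nat.card (U V t) := by
  rw [← ker_δ, AddSubgroup.index_ker]; rfl

theorem idx_le [Finite V] {s t : G} (h : ∀ u ∈ U V t, u ∈ W V s → u = 0) : (W V t).index ≤ (W V s).index := by
  rw [idx_W, idx_W]
  let f : U V t →+ U V s := (δ V s).rangeRestrict.comp (U V t).subtype
  refine Nat.card_le_card_of_injective f ((injective_iff_map_eq_zero f).2 fun x hx => Subtype.ext (h _ x.2 ?_))
  exact (sub_eq_zero.1 (congrArg Subtype.val hx)).symm

theorem sup_top [Finite V] {s t : G} (h : ∀ u ∈ U V t, u ∈ W V s → u = 0) (e : (W V s).index ≤ (W V t).index) :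
    W V s ⊔ U V t = ⊤ := eq_top_iff.2 fun v _ => by
  rw [idx_W, idx_W] at e
  let f : U V t →+ U V s := (δ V s).rangeRestrict.comp (U V t).subtype
  have h1 : Function.Injective f := (injective_iff_map_eq_zero f).2 fun x hx => Subtype.ext (h _ x.2
    (sub_eq_zero.1 (congrArg Subtype.val hx)).symm)
  obtain ⟨x, hx⟩ := ((Nat.bijective_iff_injective_and_card f).2
    ⟨h1, le_antisymm (Nat.card_le_card_of_injective f h1) e⟩).2 ⟨_, δ_mem s v⟩
  simpa using AddSubgroup.add_mem_sup (mem_W_of_δ (congrArg Subtype.val hx)) x.2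

variable [FaithfulSMul G V]

theorem W_ne_top {g : G} (h : g ≠ 1) : W V g ≠ ⊤ := fun e => h (eq_one_of (V := V) fun v => e.ge (AddSubgroup.mem_top v))

variable (H : Ext G V)
include H

theorem gd_odd (h2 : ∀ v : V, v + v = 0 → v = 0) {s t : G} (hs : Mx V s) (ht : Mx V t) (hn : s ≠ t) : Gd V s t := by
  intro a ha b hb e1 e2
  have a1 := neg_of_mem_U (hs.sq H) ha
  have a2 := neg_of_mem_U (ht.sq H) hb
  have a3 : (s * t) • (a + b) = a + b := by rw [mul_smul, mem_W.1 e2, mem_W.1 e1]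
  rw [mem_W, smul_add] at e1 e2
  have a4 : t • a = a + (b + b) := by linear_combination (norm := abel1) e2 - a2
  have a5 : (s * t) • a = a + (a + b + (a + b)) := by
    rw [mul_smul, a4, smul_add, smul_add]; linear_combination (norm := abel1) e1 + e1 - a1
  have a6 := h2 _ (h2 _ (four_eq H a5 (by rw [smul_add, a3])))
  have a7 : a = 0 := by_contra fun h => hn (hs.ti H ht ha (by rw [eq_neg_of_add_eq_zero_left a6]; exact neg_mem hb) h)
  exact ⟨a7, by simpa [a7] using a6⟩

theorem U_le_two (h2 : ∀ v : V, v + v = 0) {s t : G} (ht : Mx V t) (c : s * t = t * s) : U V t ≤ W V s :=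
  fun _ hu => fix_two H h2 (ht.sq H) c hu

theorem gd_nc (h2 : (∀ v : V, v + v = 0) ∨ ∀ v : V, v + v = 0 → v = 0) {s t : G} (hs : Mx V s) (ht : Mx V t)
    (hn : s * t ≠ t * s) : Gd V s t := by
  rcases h2 with h2 | h2
  · intro a ha b hb e1 e2
    exact ⟨hs.zero_nc H hn.symm ha (by simpa using sub_mem e2 (U_le_two H h2 ht rfl hb)),
      ht.zero_nc H hn hb (by simpa using sub_mem e1 (U_le_two H h2 hs rfl ha))⟩
  · exact gd_odd H h2 hs ht (by rintro rfl; exact hn rfl)

theorem U_le_odd (h2 : ∀ v : V, v + v = 0 → v = 0) {s t : G} (hs : Mx V s) (ht : Mx V t) (hn : t ≠ s) (c : s * t = t * s) :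
    U V t ≤ W V s := (ht.pm_odd H h2 c).elim id fun h u hu => by
  have h1 := h hu
  rw [mem_W, mul_smul, smul_eq_iff_eq_inv_smul, ht.inv H, neg_of_mem_U (ht.sq H) hu] at h1
  have h3 : u = 0 := h2 u (by_contra fun h4 => hn (ht.ti H hs (add_mem hu hu) (mem_U.2 ⟨u, by rw [h1, sub_neg_eq_add]⟩) h4))
  rw [h3]; exact zero_mem _

theorem le_of_conj_two (h2 : ∀ v : V, v + v = 0) {a g : G} (ha : Mx V a) (c : a * (g * a * g⁻¹) = g * a * g⁻¹ * a) :
    W V a ≤ W V (g * a * g⁻¹) := fun v hv => by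
  have hb := ha.conj g
  obtain ⟨u, hu, h0⟩ := exists_mem_U (V := V) ha.1
  have hu' := smul_mem_U (g := g) hu
  generalize g * a * g⁻¹ = b at *
  by_contra hne
  have hab : a ≠ b := by rintro rfl; exact hne hv
  obtain ⟨h, e1, e2, -⟩ := swap H g u
  have e3 : h * a * h⁻¹ = b := (ha.conj h).ti H hb (smul_mem_U hu) (e1 ▸ hu') (mt (smul_eq_zero_iff_eq h).1 h0)
  have e4 : h * b * h⁻¹ = a := (hb.conj h).ti H ha (e2 ▸ smul_mem_U hu') hu h0
  have e5 : h • (v - b • v) = v - b • v := by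
    refine fix_two H h2 (t := b * a) ?_ ?_ (mem_U.2 ⟨v, by rw [mul_smul, mem_W.1 hv]⟩)
    · rw [mul_assoc, ← mul_assoc a, c, mul_assoc, ha.sq H, mul_one, hb.sq H]
    · calc h * (b * a) = (h * b * h⁻¹) * (h * a * h⁻¹) * h := by group
        _ = b * a * h := by rw [e3, e4, c]
  exact hab (ha.ti H hb (e5 ▸ e4 ▸ smul_mem_U (δ_mem b v)) (δ_mem b v) fun h => hne (sub_eq_zero.1 h).symm)

variable [Finite G] [Finite V]

theorem idx_nc {s t : G} (hs : Mx V s) (ht : Mx V t) (hn : s * t ≠ t * s) : (W V s).index = (W V t).index :=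
  le_antisymm (idx_le fun _ => hs.zero_nc H hn.symm) (idx_le fun _ => ht.zero_nc H hn)

theorem isConj_two (h2 : ∀ v : V, v + v = 0) {s t : G} (hs : Mx V s) (ht : Mx V t) (hn : s * t ≠ t * s) : IsConj s t := by
  by_contra h
  obtain ⟨z, h1, h3, h4, h5⟩ := Cfsg.Lib.Invol.exists_central_of_not_isConj (hs.sq H) (ht.sq H) h
  refine W_ne_top (V := V) (g := z) (by rintro rfl; simp at h1)
    ((gd_nc H (.inl h2) hs ht hn).top (fun v hv => ?_) (U_le_two H h2 hs h3) (U_le_two H h2 ht h4))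
  exact (Subgroup.zpowers_le (H := MulAction.stabilizer G v)).2
    (by rw [MulAction.mem_stabilizer_iff, mul_smul, mem_W.1 hv.2, mem_W.1 hv.1]) h5

theorem gen_odd (h2 : ∀ v : V, v + v = 0 → v = 0) (g : G) : g ∈ Subgroup.closure {t : G | Mx V t} := by
  suffices ∀ n, ∀ g : G, (W V g).index ≤ n → g ∈ Subgroup.closure {t : G | Mx V t} from this _ g le_rfl
  intro n
  induction n with
  | zero => exact fun g h => absurd (Nat.le_zero.1 h) AddSubgroup.index_ne_zero_of_finite
  | succ n ih =>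
    intro g hg
    have k0 : ∀ k : G, W V g ≤ W V k → ∀ v ∈ W V k, v ∉ W V g → k ∈ Subgroup.closure {t : G | Mx V t} :=
      fun k h1 v h3 h4 => ih k (by
        by_contra h5
        exact h4 ((eq_of_idx h1 (by omega)).ge h3))
    have k1 : ∀ k : G, W V k = W V g → k * k ≠ 1 → k ∈ Subgroup.closure {t : G | Mx V t} := fun k h1 h3 => by
      obtain ⟨v, hv⟩ := exists_ne (V := V) h3
      obtain ⟨h, e1, e2, e3⟩ := swap H k v
      have a1 := k0 h (h1 ▸ e3) (v + k • v) (by rw [mem_W, smul_add, e1, e2, add_comm]) (fun h4 => hv (by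
        rw [← h1, mem_W, smul_add, add_comm] at h4
        rw [mul_smul]; exact add_right_cancel h4))
      have a2 := k0 (h⁻¹ * k) (fun w hw => by
        rw [← h1] at hw
        rw [mem_W, mul_smul, mem_W.1 hw, inv_smul_eq_iff, mem_W.1 (e3 hw)]) v
        (by rw [mem_W, mul_smul, ← e1, inv_smul_smul]) (fun h4 => hv (by
          rw [← h1] at h4
          rw [mul_smul, mem_W.1 h4, mem_W.1 h4]))
      simpa using mul_mem a1 a2
    by_cases g1 : g = 1
    · rw [g1]; exact one_mem _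
    by_cases g2 : g * g = 1
    swap
    · exact k1 g rfl g2
    obtain ⟨t, ht, e⟩ := exists_mx (V := V) g1
    have tm : t ∈ Subgroup.closure {t : G | Mx V t} := Subgroup.subset_closure ht
    suffices t * g ∈ Subgroup.closure {t : G | Mx V t} by simpa using mul_mem (inv_mem tm) this
    have e1 : W V g ≤ W V (t * g) := fun v hv => by rw [mem_W, mul_smul, mem_W.1 hv, mem_W.1 (e hv)]
    by_cases e2 : W V (t * g) ≤ W V g
    swap
    · obtain ⟨v, h3, h4⟩ := SetLike.not_le_iff_exists.1 e2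
      exact k0 _ e1 v h3 h4
    refine k1 _ (le_antisymm e2 e1) fun h3 => ?_
    have c : g * t = t * g := by
      rw [← inv_eq_of_mul_eq_one_right h3, mul_inv_rev, ht.inv H, inv_eq_of_mul_eq_one_right g2]
    obtain ⟨u, hu, h0⟩ := exists_mem_U (V := V) ht.1
    exact h0 (ht.zero_odd H h2 hu (e ((ht.pm_odd H h2 c).elim (· hu) fun h => e2 (h hu))))

variable (hirr : ∀ M : AddSubgroup V, (∀ g : G, ∀ v ∈ M, g • v ∈ M) → M = ⊥ ∨ M = ⊤)
include hirr

theorem exists_conj_not_mem {s : G} (hs : s ≠ 1) {z : V} (hz : z ≠ 0) : ∃ g : G, z ∉ W V (g * s * g⁻¹) := by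
  by_contra h
  push Not at h
  rcases hirr (⨅ g : G, W V (g * s * g⁻¹)) (fun k v hv => AddSubgroup.mem_iInf.2 fun g => by
    have := (smul_mem_W (g := k)).2 (AddSubgroup.mem_iInf.1 hv (k⁻¹ * g))
    rwa [show k * (k⁻¹ * g * s * (k⁻¹ * g)⁻¹) * k⁻¹ = g * s * g⁻¹ by group] at this) with e | e
  · exact hz (AddSubgroup.mem_bot.1 (e ▸ AddSubgroup.mem_iInf.2 h))
  · exact W_ne_top (V := V) hs (top_le_iff.1 (e.ge.trans ((iInf_le _ 1).trans (by simp))))

theorem zero_two (h2 : ∀ v : V, v + v = 0) {s t : G} (hs : Mx V s) (ht : Mx V t) (hn : s * t ≠ t * s) :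
    W V s ⊓ W V t = ⊥ := by
  refine eq_bot_iff.2 fun z hz => by_contra fun h0 => ?_
  obtain ⟨g, hg⟩ := exists_conj_not_mem H hirr hs.1 h0
  have hr := hs.conj g
  obtain ⟨u, hu, h1⟩ := exists_mem_U (V := V) hr.1
  obtain ⟨a, ha, e1, e2⟩ := pencil H hs ht hn u
  have c1 : IsConj a s := by
    by_cases c : a * s = s * a
    · by_cases c' : a * t = t * a
      · exact absurd ((gd_nc H (.inl h2) hs ht hn).top e1 (U_le_two H h2 hs c) (U_le_two H h2 ht c')) (W_ne_top ha.1)
      · exact (isConj_two H h2 ha ht c').trans (isConj_two H h2 hs ht hn).symm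
    · exact isConj_two H h2 ha hs c
  obtain ⟨k, hk⟩ := isConj_iff.1 (c1.trans (isConj_iff.2 ⟨g, rfl⟩))
  have c2 := hr.comm H hu (g := a) (by rwa [mem_W.1 e2]) h1
  rw [← hk] at c2 hg
  exact hg (le_of_conj_two H h2 ha c2 (e1 hz))

end Cfsg.Lib.BinAff
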