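/-
Binary affine permutation groups in odd characteristic: reduction to rank two by the friendship theorem.
-/
import Cfsg.Agent.Lib.BinAff.B

set_option autoImplicit false

namespace Cfsg.Lib.BinAff

variable {G V : Type*} [Group G] [AddCommGroup V] [DistribMulAction G V] [FaithfulSMul G V] [Finite G] [Finite V]
  (H : Ext G V) (h2 : ∀ v : V, v + v = 0 → v = 0) {s t : G} (hs : Mx V s) (ht : Mx V t) (hn : s * t ≠ t * s)
include H h2 hs ht hn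

theorem pen_idx {a : G} (ha : Mx V a) (h : W V s ⊓ W V t ≤ W V a) : (W V a).index = (W V s).index := by
  by_cases a1 : a = s
  · rw [a1]
  by_cases a2 : a = t
  · rw [a2, idx_nc H hs ht hn]
  by_cases c : a * s = s * a
  · by_cases c' : a * t = t * a
    · exact absurd ((gd_nc H (.inr h2) hs ht hn).top h (U_le_odd H h2 ha hs (Ne.symm a1) c)
        (U_le_odd H h2 ha ht (Ne.symm a2) c')) (W_ne_top ha.1)
    · rw [idx_nc H ha ht c', idx_nc H hs ht hn]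
  · exact idx_nc H ha hs c

theorem pen_inf {a b : G} (ha : Mx V a) (hb : Mx V b) (h : W V s ⊓ W V t ≤ W V a) (h' : W V s ⊓ W V t ≤ W V b) (e : a ≠ b) :
    W V s ⊓ W V t = W V a ⊓ W V b := eq_of_idx (le_inf h h') (by
  rw [(gd_odd H h2 ha hb e).idx, (gd_nc H (.inr h2) hs ht hn).idx, pen_idx H h2 hs ht hn ha h, pen_idx H h2 hs ht hn hb h',
    ← idx_nc H hs ht hn])

theorem pen_three {r : G} (hr : Mx V r) (h1 : ¬ U V r ≤ W V s ⊓ W V t) (h3 : ¬ W V s ⊓ W V t ≤ W V r) :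
    ∃ a : Fin 3 → G, Function.Injective a ∧ ∀ i, Mx V (a i) ∧ W V s ⊓ W V t ≤ W V (a i) ∧ r * a i ≠ a i * r := by
  have hst : s ≠ t := by rintro rfl; exact hn rfl
  obtain ⟨w₁, a1, a2⟩ := SetLike.not_le_iff_exists.1 (mt (hs.comm_of_le H ht) hn)
  obtain ⟨w₂, a3, a4⟩ := SetLike.not_le_iff_exists.1 (mt (ht.comm_of_le H hs) hn.symm)
  obtain ⟨a, ha, b1, b2⟩ := pencil H hs ht hn (w₁ + w₂)
  obtain ⟨b, hb, b3, b4⟩ := pencil H hs ht hn (w₁ - w₂)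
  have c1 : s ≠ a := by rintro rfl; exact a4 (by simpa using sub_mem b2 a1)
  have c2 : t ≠ a := by rintro rfl; exact a2 (by simpa using sub_mem b2 a3)
  have c3 : s ≠ b := by rintro rfl; exact a4 (by simpa using sub_mem a1 b4)
  have c4 : t ≠ b := by rintro rfl; exact a2 (by simpa using add_mem b4 a3)
  have c5 : a ≠ b := by
    rintro rfl
    have e1 : a • (w₁ + w₁) = w₁ + w₁ := by simpa using mem_W.1 (add_mem b2 b4)
    have e2 : a • w₁ = w₁ := sub_eq_zero.1 (h2 _ (by rw [smul_add] at e1; linear_combination (norm := abel1) e1))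
    exact a2 ((pen_inf H h2 hs ht hn hs ha inf_le_left b1 c1).ge ⟨a1, e2⟩).2
  have key : ∀ x y : G, Mx V x → Mx V y → W V s ⊓ W V t ≤ W V x → W V s ⊓ W V t ≤ W V y → x ≠ y → r * x = x * r →
      r * y ≠ y * r := fun x y hx hy e1 e2 e3 e4 e5 => h1 (by
    rw [pen_inf H h2 hs ht hn hx hy e1 e2 e3]
    exact le_inf (U_le_odd H h2 hx hr (by rintro rfl; exact h3 e1) e4.symm)
      (U_le_odd H h2 hy hr (by rintro rfl; exact h3 e2) e5.symm))
  have fin : ∀ x y z : G, x ≠ y → x ≠ z → y ≠ z → (Mx V x ∧ W V s ⊓ W V t ≤ W V x ∧ r * x ≠ x * r) →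
      (Mx V y ∧ W V s ⊓ W V t ≤ W V y ∧ r * y ≠ y * r) → (Mx V z ∧ W V s ⊓ W V t ≤ W V z ∧ r * z ≠ z * r) →
      ∃ a : Fin 3 → G, Function.Injective a ∧ ∀ i, Mx V (a i) ∧ W V s ⊓ W V t ≤ W V (a i) ∧ r * a i ≠ a i * r :=
    fun x y z e1 e2 e3 p1 p2 p3 => ⟨![x, y, z], fun i j => by
      fin_cases i <;> fin_cases j <;> simp [e1, e2, e3, e1.symm, e2.symm, e3.symm], fun i => by fin_cases i <;> assumption⟩
  by_cases d1 : r * s = s * r
  · exact fin t a b c2 c4 c5 ⟨ht, inf_le_right, key s t hs ht inf_le_left inf_le_right hst d1⟩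
      ⟨ha, b1, key s a hs ha inf_le_left b1 c1 d1⟩ ⟨hb, b3, key s b hs hb inf_le_left b3 c3 d1⟩
  by_cases d2 : r * t = t * r
  · exact fin s a b c1 c3 c5 ⟨hs, inf_le_left, d1⟩ ⟨ha, b1, key t a ht ha inf_le_right b1 c2 d2⟩
      ⟨hb, b3, key t b ht hb inf_le_right b3 c4 d2⟩
  by_cases d3 : r * a = a * r
  · exact fin s t b hst c3 c4 ⟨hs, inf_le_left, d1⟩ ⟨ht, inf_le_right, d2⟩ ⟨hb, b3, key a b ha hb b1 b3 c5 d3⟩
  · exact fin s t a hst c1 c2 ⟨hs, inf_le_left, d1⟩ ⟨ht, inf_le_right, d2⟩ ⟨ha, b1, d3⟩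

variable {r : G} (hr : Mx V r) (h1 : ¬ U V r ≤ W V s ⊓ W V t) (h3 : ¬ W V s ⊓ W V t ≤ W V r)
include hr h1 h3

theorem tri_idx {x : G} (hx : Mx V x) (h : W V s ⊓ W V t ⊓ W V r ≤ W V x) : (W V x).index = (W V s).index := by
  obtain ⟨a, -, ha⟩ := pen_three H h2 hs ht hn hr h1 h3
  have e : (W V r).index = (W V s).index :=
    (idx_nc H hr (ha 0).1 (ha 0).2.2).trans (pen_idx H h2 hs ht hn (ha 0).1 (ha 0).2.1)
  have k : ∀ y, Mx V y → (W V y).index = (W V s).index → (W V x).index ≠ (W V s).index → U V x ≤ W V y := fun y hy e1 e2 =>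
    U_le_odd H h2 hy hx (by rintro rfl; exact e2 e1) (by_contra fun c => e2 ((idx_nc H hy hx c).symm.trans e1))
  by_contra e2
  obtain ⟨u, hu, h0⟩ := exists_mem_U (V := V) hx.1
  exact h0 (hx.zero_odd H h2 hu (h ⟨⟨k s hs rfl e2 hu, k t ht (idx_nc H hs ht hn).symm e2 hu⟩, k r hr e e2 hu⟩))

theorem tri_le : (W V s ⊓ W V t ⊓ W V r).index ≤ (W V s).index ^ 3 := by
  refine AddSubgroup.index_inf_le.trans ?_
  rw [(gd_nc H (.inr h2) hs ht hn).idx, ← idx_nc H hs ht hn, tri_idx H h2 hs ht hn hr h1 h3 hr inf_le_right]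
  exact le_of_eq (by ring)

theorem pair_of_not_mem {v : V} (hv : v ∉ W V r) : ∃ a b : G, Mx V a ∧ Mx V b ∧ a * b ≠ b * a ∧
    W V s ⊓ W V t ⊓ W V r ≤ W V a ⊓ W V b ∧ v ∈ W V a ⊓ W V b := by
  obtain ⟨a, hi, ha⟩ := pen_three H h2 hs ht hn hr h1 h3
  choose b hb e1 e2 using fun i => pencil H hr (ha i).1 (ha i).2.2 v
  have e3 : ∀ i, W V s ⊓ W V t ⊓ W V r ≤ W V (b i) := fun i => le_trans (le_inf inf_le_right (inf_le_left.trans (ha i).2.1)) (e1 i)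
  have e4 : ∀ i j, i ≠ j → b i ≠ b j := fun i j hij e => by
    have c : ∀ i, W V r ⊓ W V (a i) = W V r ⊓ W V (b i) := fun i =>
      pen_inf H h2 hr (ha i).1 (ha i).2.2 hr (hb i) inf_le_left (e1 i) fun h => hv (h ▸ e2 i)
    have c1 : W V r ⊓ W V (a j) ≤ W V s ⊓ W V t := by
      rw [pen_inf H h2 hs ht hn (ha i).1 (ha j).1 (ha i).2.1 (ha j).2.1 (hi.ne hij)]
      exact le_inf (by rw [c j, ← e, ← c i]; exact inf_le_right) inf_le_right
    refine h3 ((eq_of_idx c1 (le_of_eq ?_)).ge.trans inf_le_left)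
    rw [(gd_nc H (.inr h2) hs ht hn).idx, (gd_nc H (.inr h2) hr (ha j).1 (ha j).2.2).idx, ← idx_nc H hs ht hn,
      pen_idx H h2 hs ht hn (ha j).1 (ha j).2.1, tri_idx H h2 hs ht hn hr h1 h3 hr inf_le_right]
  by_contra hc
  have c : ∀ i j, b i * b j = b j * b i := fun i j => by_contra fun h =>
    hc ⟨b i, b j, hb i, hb j, h, le_inf (e3 i) (e3 j), e2 i, e2 j⟩
  have c1 : W V (b 0) ⊓ W V (b 1) ⊔ W V (b 2) = ⊤ := by
    rw [eq_top_iff, ← sup_top (s := b 2) (t := b 2) (fun u => (hb 2).zero_odd H h2) le_rfl, sup_comm]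
    exact sup_le_sup_right (le_inf (U_le_odd H h2 (hb 0) (hb 2) (e4 _ _ (by decide)) (c _ _))
      (U_le_odd H h2 (hb 1) (hb 2) (e4 _ _ (by decide)) (c _ _))) _
  have c2 := eq_of_idx (le_inf (le_inf (e3 0) (e3 1)) (e3 2)) ((tri_le H h2 hs ht hn hr h1 h3).trans (le_of_eq (by
    rw [idx_inf c1, (gd_odd H h2 (hb 0) (hb 1) (e4 _ _ (by decide))).idx]
    simp only [fun i => tri_idx H h2 hs ht hn hr h1 h3 (hb i) (e3 i)]
    ring)))
  exact hv (c2.ge ⟨⟨e2 0, e2 1⟩, e2 2⟩).2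

theorem pair_of_not_mem' {v : V} (hv : v ∉ W V s ⊓ W V t ⊓ W V r) : ∃ a b : G, Mx V a ∧ Mx V b ∧ a * b ≠ b * a ∧
    W V s ⊓ W V t ⊓ W V r ≤ W V a ⊓ W V b ∧ v ∈ W V a ⊓ W V b := by
  by_cases hv' : v ∈ W V r
  swap
  · exact pair_of_not_mem H h2 hs ht hn hr h1 h3 hv'
  obtain ⟨a, hi, ha⟩ := pen_three H h2 hs ht hn hr h1 h3
  obtain ⟨i, e⟩ : ∃ i, v ∉ W V (a i) := by
    by_contra h
    push Not at h
    exact hv ⟨(pen_inf H h2 hs ht hn (ha 0).1 (ha 1).1 (ha 0).2.1 (ha 1).2.1 (hi.ne (by decide))).ge ⟨h 0, h 1⟩, hv'⟩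
  obtain ⟨b1, b2, b3⟩ := ha i
  generalize a i = k at *
  have f : ∀ z ∈ W V s ⊓ W V t, z ∈ W V (k * r * k⁻¹) ↔ z ∈ W V r := fun z hz => by
    rw [← smul_mem_W (g := k) (t := r), mem_W.1 (b2 hz)]
  obtain ⟨x, y, c1, c2, c3, c4, c5⟩ := pair_of_not_mem H h2 hs ht hn (hr.conj k)
    (fun h => h1 fun u hu => by
      have h4 := h (smul_mem_U (g := k) hu)
      rwa [show k • u = u from MulAction.injective k (mem_W.1 (b2 h4))] at h4)
    (fun h => h3 fun z hz => (f z hz).1 (h hz)) (v := v) (fun h => e (by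
      have h4 : k • v ∈ W V r := by
        rwa [← smul_mem_W (g := k), ← mul_smul, b1.sq H, one_smul]
      exact (sub_eq_zero.1 (b1.zero_nc H b3 (δ_mem k v) (sub_mem hv' h4))).symm))
  exact ⟨x, y, c1, c2, c3, fun z hz => c4 ⟨hz.1, (f z hz.1).2 hz.2⟩, c5⟩

theorem false_of_tri : False := by
  classical
  let X := {x : G // Mx V x ∧ W V s ⊓ W V t ⊓ W V r ≤ W V x}
  let Γ : SimpleGraph X := ⟨fun x y => x ≠ y ∧ x.1 * y.1 = y.1 * x.1, ⟨fun _ _ h => ⟨h.1.symm, h.2.symm⟩⟩, ⟨fun _ h => h.1 rfl⟩⟩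
  have := Fintype.ofFinite X
  have hU : ∀ x y : X, Γ.Adj x y → U V x.1 ≤ W V y.1 := fun x y h =>
    U_le_odd H h2 y.2.1 x.2.1 (Subtype.ext_iff.not.1 h.1) h.2.symm
  have hF : Cfsg.Lib.Friend.Friendship Γ := fun x y hxy => by
    refine (@Fintype.card_eq_one_iff _ (_)).2 ?_
    obtain ⟨u, hu, h0⟩ := exists_mem_U (V := V) x.2.1.1
    obtain ⟨u', hu', h0'⟩ := exists_mem_U (V := V) y.2.1.1
    obtain ⟨a, b, ha, hb, c, c1, c2⟩ := pair_of_not_mem' H h2 hs ht hn hr h1 h3 (v := u)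
      fun h => h0 (x.2.1.zero_odd H h2 hu (x.2.2 h))
    obtain ⟨z, hz, c3, c4⟩ := pencil H ha hb c u'
    have c5 := c3 c2
    let z' : X := ⟨z, hz, c1.trans c3⟩
    have d1 : Γ.Adj x z' := ⟨fun h => h0 (x.2.1.zero_odd H h2 hu (by rw [h]; exact c5)),
      (x.2.1.comm H hu (by rwa [mem_W.1 c5]) h0).symm⟩
    have d2 : Γ.Adj y z' := ⟨fun h => h0' (y.2.1.zero_odd H h2 hu' (by rw [h]; exact c4)),
      (y.2.1.comm H hu' (by rwa [mem_W.1 c4]) h0').symm⟩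
    refine ⟨⟨z', d1, d2⟩, fun w => Subtype.ext (by_contra fun hne => ?_)⟩
    have g1 := gd_odd H h2 x.2.1 y.2.1 (Subtype.ext_iff.not.1 hxy)
    have g2 := gd_odd H h2 w.1.2.1 hz (Subtype.ext_iff.not.1 hne)
    have e1 : W V w.1.1 ⊓ W V z ⊔ W V x.1 ⊓ W V y.1 = ⊤ := g1.top le_sup_right
      (le_sup_of_le_left (le_inf (hU _ _ w.2.1) (hU _ _ d1))) (le_sup_of_le_left (le_inf (hU _ _ w.2.2) (hU _ _ d2)))
    have e2 := (AddSubgroup.index_antitone (le_inf (le_inf w.1.2.2 z'.2.2) (le_inf x.2.2 y.2.2))).trans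
      (tri_le H h2 hs ht hn hr h1 h3)
    rw [idx_inf e1, g1.idx, g2.idx, tri_idx H h2 hs ht hn hr h1 h3 x.2.1 x.2.2, tri_idx H h2 hs ht hn hr h1 h3 y.2.1 y.2.2,
      tri_idx H h2 hs ht hn hr h1 h3 w.1.2.1 w.1.2.2, tri_idx H h2 hs ht hn hr h1 h3 hz z'.2.2] at e2
    have e3 : 1 < (W V s).index := AddSubgroup.one_lt_index_of_ne_top (W_ne_top hs.1)
    generalize (W V s).index = q at *
    have : q ^ 3 < q ^ 4 := Nat.pow_lt_pow_right e3 (by norm_num)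
    nlinarith
  have : Nonempty X := ⟨⟨s, hs, inf_le_left.trans inf_le_left⟩⟩
  obtain ⟨x, hx⟩ := Cfsg.Lib.Friend.friendship_theorem hF
  obtain ⟨a, hi, ha⟩ := pen_three H h2 hs ht hn hr h1 h3
  have k : ∀ y : X, x = y ∨ x.1 * y.1 = y.1 * x.1 := fun y => or_iff_not_imp_left.2 fun h => (hx y h).2
  let s' : X := ⟨s, hs, inf_le_left.trans inf_le_left⟩
  let t' : X := ⟨t, ht, inf_le_left.trans inf_le_right⟩
  let r' : X := ⟨r, hr, inf_le_right⟩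
  let a' : X := ⟨a 0, (ha 0).1, inf_le_left.trans (ha 0).2.1⟩
  have k1 : ∀ y z : X, y.1 * z.1 ≠ z.1 * y.1 → x ≠ y := by
    rintro y z h rfl
    exact (k z).elim (fun e => h (by rw [e])) h
  obtain ⟨u, hu, h0⟩ := exists_mem_U (V := V) x.2.1.1
  exact h0 (x.2.1.zero_odd H h2 hu (x.2.2 ⟨⟨hU _ _ (hx _ (k1 s' t' hn)) hu, hU _ _ (hx _ (k1 t' s' hn.symm)) hu⟩,
    hU _ _ (hx _ (k1 r' a' (ha 0).2.2)) hu⟩))

omit hr h1 h3 in
theorem zero_odd (hirr : ∀ M : AddSubgroup V, (∀ g : G, ∀ v ∈ M, g • v ∈ M) → M = ⊥ ∨ M = ⊤) : W V s ⊓ W V t = ⊥ := by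
  refine (hirr _ fun g => ?_).resolve_right fun h => W_ne_top hs.1 (top_le_iff.1 (h.ge.trans inf_le_left))
  induction gen_odd H h2 g using Subgroup.closure_induction with
  | mem r hr =>
    intro v hv
    by_cases a1 : U V r ≤ W V s ⊓ W V t
    · simpa using sub_mem hv (a1 (δ_mem r v))
    by_cases a2 : W V s ⊓ W V t ≤ W V r
    · rwa [mem_W.1 (a2 hv)]
    exact (false_of_tri H h2 hs ht hn hr a1 a2).elim
  | one => simp
  | mul x y _ _ hx hy => exact fun v hv => by rw [mul_smul]; exact hx _ (hy v hv)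
  | inv x _ hx =>
    intro v hv
    rw [← mul_one x⁻¹, ← pow_orderOf_eq_one x, ← Nat.succ_pred_eq_of_pos (orderOf_pos x), pow_succ', inv_mul_cancel_left]
    induction (orderOf x).pred with
    | zero => simpa using hv
    | succ n ih => rw [pow_succ', mul_smul]; exact hx _ ih

end Cfsg.Lib.BinAff
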