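/-
Binary affine permutation groups: the point stabilizer is an anisotropic orthogonal group of a plane, or has order at most two.
-/
import Cfsg.Agent.Lib.BinAff.C
import Mathlib.FieldTheory.Galois.Basic
import Mathlib.RingTheory.Norm.Transitivity
import Mathlib.Algebra.Field.Shrink

set_option autoImplicit false

namespace Cfsg.Lib.BinAff

theorem final_field {R : Type*} [Field R] [Finite R] (τ : R ≃+* R) (hτ : ∀ x, τ (τ x) = x) (hne : ∃ x, τ x ≠ x) :
    ∃ (F E : Type) (_ : Field F) (_ : Fintype F) (_ : Field E) (_ : Fintype E) (_ : Algebra F E) (e : R ≃+* E),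
      Module.finrank F E = 2 ∧ (∀ a : R, Algebra.norm F (e a) = 1 ↔ a * τ a = 1) ∧
      ∃ φ₀ : E ≃ₐ[F] E, (∀ x, φ₀ (e x) = e (τ x)) ∧ ∀ φ : E ≃ₐ[F] E, φ = 1 ∨ φ = φ₀ := by
  classical
  let e : R ≃+* Shrink.{0} R := (Shrink.ringEquiv.{0, _} R).symm
  have : Finite (Shrink.{0} R) := Finite.of_equiv R e.toEquiv
  let τ' : RingAut (Shrink.{0} R) := e.symm.trans (τ.trans e)
  have h1 : ∀ x, τ' (e x) = e (τ x) := fun x => by simp [τ']
  have h2 : τ' ≠ 1 := fun h => by
    obtain ⟨x, hx⟩ := hne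
    exact hx (e.injective (by rw [← h1, h]; rfl))
  have h3 : orderOf τ' = 2 := orderOf_eq_prime (by
    ext x
    obtain ⟨x, rfl⟩ := e.surjective x
    rw [sq, RingAut.mul_apply, h1, h1, hτ]; rfl) h2
  let Γ := Subgroup.zpowers τ'
  have : Finite Γ := Nat.finite_of_card_ne_zero (by rw [Nat.card_zpowers, h3]; norm_num)
  have := Fintype.ofFinite Γ
  have h4 : Module.finrank (FixedPoints.subfield Γ (Shrink.{0} R)) (Shrink.{0} R) = 2 := by
    rw [FixedPoints.finrank_eq_card, ← Nat.card_eq_fintype_card, Nat.card_zpowers, h3]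
  let φ₀ : Shrink.{0} R ≃ₐ[FixedPoints.subfield Γ (Shrink.{0} R)] Shrink.{0} R :=
    MulSemiringAction.toAlgEquiv _ _ (⟨τ', Subgroup.mem_zpowers _⟩ : Γ)
  have h5 : ∀ x, φ₀ (e x) = e (τ x) := h1
  have h6 : φ₀ ≠ 1 := fun h => by
    obtain ⟨x, hx⟩ := hne
    exact hx (e.injective (by rw [← h5, h]; rfl))
  have h7 : ∀ φ : Shrink.{0} R ≃ₐ[FixedPoints.subfield Γ (Shrink.{0} R)] Shrink.{0} R, φ = 1 ∨ φ = φ₀ := fun φ => by
    obtain ⟨y, -, hy⟩ := (Nat.card_eq_two_iff' 1).1 ((IsGalois.card_aut_eq_finrank _ _).trans h4)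
    exact or_iff_not_imp_left.2 fun h => (hy φ h).trans (hy φ₀ h6).symm
  refine ⟨FixedPoints.subfield Γ (Shrink.{0} R), Shrink.{0} R, inferInstance, Fintype.ofFinite _, inferInstance,
    Fintype.ofFinite _, inferInstance, e, h4, fun a => ?_, φ₀, h5, h7⟩
  rw [← (algebraMap (FixedPoints.subfield Γ (Shrink.{0} R)) (Shrink.{0} R)).injective.eq_iff, map_one,
    Algebra.norm_eq_prod_automorphisms, show Finset.univ = {1, φ₀} by ext φ; simpa using h7 φ, Finset.prod_pair h6.symm, h5,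
    AlgEquiv.one_apply, ← map_mul, map_eq_one_iff _ e.injective]

variable {G V : Type*} [Group G] [AddCommGroup V] [DistribMulAction G V] [FaithfulSMul G V] [Finite G] [Finite V]
  (H : Ext G V) (hirr : ∀ M : AddSubgroup V, (∀ g : G, ∀ v ∈ M, g • v ∈ M) → M = ⊥ ∨ M = ⊤)
include H hirr

omit [FaithfulSMul G V] [Finite G] [Finite V] H in
theorem char_cases : (∀ v : V, v + v = 0) ∨ ∀ v : V, v + v = 0 → v = 0 := by
  rcases hirr (AddMonoidHom.id V + AddMonoidHom.id V).ker (fun g v hv => by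
    have h : v + v = 0 := hv
    change g • v + g • v = 0
    rw [← smul_add, h, smul_zero]) with h | h
  · exact .inr fun v hv => AddSubgroup.mem_bot.1 (h.le hv)
  · exact .inl fun v => h.ge (AddSubgroup.mem_top v)

theorem degenerate (hc : ∀ s t : G, Mx V s → Mx V t → s * t = t * s) (g : G) : g = 1 ∨ ∀ v : V, g • v = -v := by
  have h1 : ∀ t : G, Mx V t → W V t = ⊥ := fun t ht => by
    rcases char_cases hirr with h2 | h2
    · obtain ⟨u, hu, h0⟩ := exists_mem_U (V := V) ht.1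
      refine (hirr _ fun g v hv => ?_).resolve_right (W_ne_top ht.1)
      have := (smul_mem_W (g := g)).2 (le_of_conj_two H h2 (g := g⁻¹) ht (hc _ _ ht (ht.conj _)) hv)
      rwa [show g * (g⁻¹ * t * g⁻¹⁻¹) * g⁻¹ = t by group] at this
    · refine (hirr _ fun g v hv => ?_).resolve_right (W_ne_top ht.1)
      have : g ∈ Subgroup.centralizer {t} := (Subgroup.closure_le _).2
        (fun s hs => Subgroup.mem_centralizer_singleton_iff.2 (hc _ _ hs ht)) (gen_odd H h2 g)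
      rw [mem_W, ← mul_smul, ← Subgroup.mem_centralizer_singleton_iff.1 this, mul_smul, mem_W.1 hv]
  have h2 : ∀ k : G, k ≠ 1 → W V k ≤ ⊥ := fun k hk => by
    obtain ⟨t, ht, e⟩ := exists_mx (V := V) hk
    exact h1 t ht ▸ e
  refine or_iff_not_imp_left.2 fun hg v => eq_neg_of_add_eq_zero_left (AddSubgroup.mem_bot.1 (h2 g hg ?_))
  rw [mem_W, smul_add, ← mul_smul, Mx.sq H ⟨hg, fun k hk _ => (h2 k hk).trans bot_le⟩, one_smul, add_comm]

theorem degenerate' [Nontrivial V] (hc : ∀ s t : G, Mx V s → Mx V t → s * t = t * s) :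
    (Nat.card V).Prime ∧ Nat.card G ≤ 2 := by
  have h := degenerate H hirr hc
  have : IsSimpleAddGroup V := ⟨fun M _ => hirr M fun g v hv => (h g).elim (fun e => by simpa [e] using hv)
    fun e => by simpa [e] using hv⟩
  refine ⟨IsSimpleAddGroup.prime_card, (Nat.card_le_card_of_injective (fun g : G => g = 1) fun g k e => ?_).trans (by simp)⟩
  have e' : g = 1 ↔ k = 1 := iff_of_eq e
  by_cases hg : g = 1
  · rw [hg, e'.1 hg]
  · exact eq_of_smul_eq_smul (α := V) fun v => by rw [(h g).resolve_left hg, (h k).resolve_left (mt e'.2 hg)]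

theorem zero_pair {s t : G} (hs : Mx V s) (ht : Mx V t) (hn : s * t ≠ t * s) : W V s ⊓ W V t = ⊥ :=
  (char_cases hirr).elim (fun h2 => zero_two H hirr h2 hs ht hn) fun h2 => zero_odd H h2 hs ht hn hirr

variable {s t : G} (hs : Mx V s) (ht : Mx V t) (hn : s * t ≠ t * s)
include hs ht hn

theorem W_le_U (h2 : ∀ v : V, v + v = 0) {a : G} (ha : Mx V a) : W V a ≤ U V a := by
  obtain ⟨b, hb, c⟩ : ∃ b, Mx V b ∧ a * b ≠ b * a := by
    by_contra h
    push Not at h
    exact W_ne_top ha.1 ((gd_nc H (.inl h2) hs ht hn).top ((zero_pair H hirr hs ht hn).le.trans bot_le)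
      (U_le_two H h2 hs (h s hs)) (U_le_two H h2 ht (h t ht)))
  intro w hw
  obtain ⟨x, hx, y, hy, rfl⟩ := AddSubgroup.mem_sup.1 (((gd_nc H (.inl h2) ha hb c).top (M := U V a ⊔ U V b)
    ((zero_pair H hirr ha hb c).le.trans bot_le) le_sup_left le_sup_right).ge (AddSubgroup.mem_top w))
  rwa [hb.zero_nc H c hy (by simpa using sub_mem hw (U_le_two H h2 ha rfl hx)), add_zero]

theorem eq_of_mem {a b : G} (ha : Mx V a) (hb : Mx V b) {y : V} (h1 : y ∈ W V a) (h3 : y ∈ W V b) (h0 : y ≠ 0) : a = b := by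
  by_contra hne
  have hZ := zero_pair H hirr hs ht hn
  rcases char_cases hirr with h2 | h2
  · by_cases c : a * b = b * a
    · exact hne (ha.ti H hb (W_le_U H hirr hs ht hn h2 ha h1) (W_le_U H hirr hs ht hn h2 hb h3) h0)
    · exact h0 (AddSubgroup.mem_bot.1 ((zero_pair H hirr ha hb c).le ⟨h1, h3⟩))
  · exact h0 (AddSubgroup.mem_bot.1 (hZ.le ((pen_inf H h2 hs ht hn ha hb (hZ.le.trans bot_le) (hZ.le.trans bot_le) hne).ge
      ⟨h1, h3⟩)))

omit hirr in
theorem exists_mem_W {a : G} (ha : Mx V a) : ∃ y ∈ W V a, y ≠ 0 := by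
  obtain ⟨u, -, h0⟩ := exists_mem_U (V := V) ha.1
  obtain ⟨b, hb, -, e⟩ := pencil H hs ht hn u
  by_contra h
  push Not at h
  exact h0 (h u (ha.2 b hb.1 (fun v hv => by rw [h v hv]; exact zero_mem _) e))

theorem stab {a k : G} (ha : Mx V a) {y : V} (h1 : y ∈ W V a) (h3 : y ∈ W V k) (h0 : y ≠ 0) : k = 1 ∨ k = a := by
  have le : ∀ k : G, k ≠ 1 → y ∈ W V k → W V k ≤ W V a := fun k hk hy => by
    obtain ⟨b, hb, e⟩ := exists_mx (V := V) hk
    rwa [eq_of_mem H hirr hs ht hn ha hb h1 (e hy) h0]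
  refine or_iff_not_imp_left.2 fun hk => ?_
  have c : k * a = a * k := mul_inv_eq_iff_eq_mul.1
    (eq_of_mem H hirr hs ht hn (ha.conj k) ha (mem_W.1 h3 ▸ (smul_mem_W (g := k)).2 h1) h1 h0)
  rcases char_cases hirr with h2 | h2
  · have e := (W_le_U H hirr hs ht hn h2 ha).trans (U_le_two H h2 ha c)
    exact eq_of_mem H hirr hs ht hn ⟨hk, fun h h4 h5 => (ha.2 h h4 (e.trans h5)).trans e⟩ ha h3 h1 h0
  · obtain ⟨u, hu, h4⟩ := exists_mem_U (V := V) ha.1
    rcases ha.pm_odd H h2 c with e | e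
    · exact absurd (ha.zero_odd H h2 hu (le k hk h3 (e hu))) h4
    · by_contra hne
      refine h4 (ha.zero_odd H h2 hu (le _ (fun h => hne ?_) ?_ (e hu)))
      · rw [← ha.inv H, eq_inv_iff_mul_eq_one, c, h]
      · rw [mem_W, mul_smul, mem_W.1 h3, mem_W.1 h1]

theorem fpf {g : G} (hg : ¬ Mx V g) (h1 : g ≠ 1) {y : V} (hy : g • y = y) : y = 0 := by_contra fun h0 => by
  obtain ⟨a, ha, -, e⟩ := pencil H hs ht hn y
  exact hg (((stab H hirr hs ht hn ha e hy h0).resolve_left h1).symm ▸ ha)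

theorem neg_of_sq {g : G} (hg : ¬ Mx V g) (h1 : g ≠ 1) (h2 : g * g = 1) (v : V) : g • v = -v :=
  eq_neg_of_add_eq_zero_left (fpf H hirr hs ht hn hg h1 (by rw [smul_add, ← mul_smul, h2, one_smul, add_comm]))

theorem inverts {g a : G} (hg : ¬ Mx V g) (ha : Mx V a) : a * g * (a * g) = 1 := by
  have sq : g * g = 1 → a * g * (a * g) = 1 := fun h => by
    by_cases h1 : g = 1
    · rw [h1, mul_one, ha.sq H]
    refine eq_one_of (V := V) fun v => ?_
    simp only [mul_smul, neg_of_sq H hirr hs ht hn hg h1 h, smul_neg, neg_neg]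
    rw [← mul_smul, ha.sq H, one_smul]
  obtain ⟨y, hy, h0⟩ := exists_mem_W H hs ht hn ha
  obtain ⟨h, e1, e2, -⟩ := refl4 H g (g⁻¹ • y)
  rw [smul_inv_smul] at e1
  rw [mul_smul, smul_inv_smul] at e2
  rcases stab H hirr hs ht hn ha hy e1 h0 with rfl | rfl
  · rw [one_smul, inv_smul_eq_iff, ← mul_smul] at e2
    exact sq ((stab H hirr hs ht hn ha hy e2.symm h0).resolve_right (ha.ne_sq H g))
  · rcases stab H hirr hs ht hn ha hy (k := g⁻¹ * h * g⁻¹) (by rw [mem_W, mul_smul, mul_smul, e2, inv_smul_smul]) h0 with e | e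
    · exact absurd (by calc g * g = g * (g⁻¹ * h * g⁻¹) * g := by rw [e, mul_one]
        _ = h := by group) (ha.ne_sq H g)
    · calc h * g * (h * g) = h * g * (g⁻¹ * h * g⁻¹ * g) := by rw [e]
        _ = h * h := by group
        _ = 1 := ha.sq H

theorem mx_mul {g a : G} (hg : ¬ Mx V g) (ha : Mx V a) : Mx V (a * g) := by_contra fun h => by
  have h1 : a * g ≠ 1 := fun e => hg (by rwa [← inv_eq_of_mul_eq_one_right e, ha.inv H])
  have h2 := neg_of_sq H hirr hs ht hn h h1 (inverts H hirr hs ht hn hg ha)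
  obtain ⟨u, hu, h0⟩ := exists_mem_U (V := V) ha.1
  refine h0 (fpf H hirr hs ht hn hg (by rintro rfl; exact h (by rwa [mul_one])) (MulAction.injective a ?_))
  change a • g • u = a • u
  rw [← mul_smul, h2, neg_of_mem_U (ha.sq H) hu]

theorem not_mx_mul {a b : G} (ha : Mx V a) (hb : Mx V b) : ¬ Mx V (a * b) := fun h => by
  obtain ⟨y, hy, h0⟩ := exists_mem_W H hs ht hn h
  have h1 : b • y = a • y := by rw [mem_W, mul_smul, smul_eq_iff_eq_inv_smul, ha.inv H] at hy; exact hy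
  have h2 : a ≠ b := by rintro rfl; exact h.1 (ha.sq H)
  by_cases h3 : y ∈ W V a
  · exact h2 (eq_of_mem H hirr hs ht hn ha hb h3 (h1.trans h3) h0)
  · obtain ⟨w, hw, h4⟩ := exists_mem_W H hs ht hn hb
    exact h2 (eq_of_mem H hirr hs ht hn ha hb (ha.le_of H h1 h3 hw) hw h4)

theorem not_mx_mul' {g k : G} (hg : ¬ Mx V g) (hk : ¬ Mx V k) : ¬ Mx V (g * k) := by
  have := not_mx_mul H hirr hs ht hn ((mx_mul H hirr hs ht hn hg hs).conj s⁻¹) (mx_mul H hirr hs ht hn hk hs)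
  rwa [show s⁻¹ * (s * g) * s⁻¹⁻¹ * (s * k) = g * (s * s) * k by group, hs.sq H, mul_one] at this

theorem conj_eq_inv {g a : G} (hg : ¬ Mx V g) (ha : Mx V a) : a * g * a = g⁻¹ :=
  eq_inv_of_mul_eq_one_left (by rw [mul_assoc, inverts H hirr hs ht hn hg ha])

theorem comm_not_mx {g k : G} (hg : ¬ Mx V g) (hk : ¬ Mx V k) : g * k = k * g := by
  have h1 := conj_eq_inv H hirr hs ht hn (not_mx_mul' H hirr hs ht hn hg hk) hs
  rw [show s * (g * k) * s = s * g * (s * s) * k * s by rw [hs.sq H]; group,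
    show s * g * (s * s) * k * s = (s * g * s) * (s * k * s) by group, conj_eq_inv H hirr hs ht hn hg hs,
    conj_eq_inv H hirr hs ht hn hk hs, ← mul_inv_rev, inv_inj] at h1
  exact h1.symm

theorem irr_not_mx (M : AddSubgroup V) (hM : ∀ g : G, ¬ Mx V g → ∀ v ∈ M, g • v ∈ M) : M = ⊥ ∨ M = ⊤ := by
  have h1 : ∀ g : G, Mx V g → ∀ v ∈ M, s • g • v ∈ M := fun g hg v hv => by
    rw [← mul_smul]; exact hM _ (not_mx_mul H hirr hs ht hn hs hg) v hv
  rcases hirr (M ⊓ M.comap (DistribSMul.toAddMonoidHom V s)) (fun g v hv => by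
    have h2 : s • v ∈ M := hv.2
    by_cases hg : Mx V g
    · refine ⟨?_, h1 g hg v hv.1⟩
      have := hM _ (not_mx_mul H hirr hs ht hn hg hs) _ h2
      rwa [← mul_smul, mul_assoc, hs.sq H, mul_one] at this
    · refine ⟨hM g hg v hv.1, ?_⟩
      have := hM _ (not_mx_mul H hirr hs ht hn (mx_mul H hirr hs ht hn hg hs) hs) _ h2
      rwa [← mul_smul, mul_assoc, hs.sq H, mul_one, mul_smul] at this) with h | h
  · refine .inl (eq_bot_iff.2 fun y hy => h.le ⟨hy, ?_⟩)
    obtain ⟨a, ha, -, e⟩ := pencil H hs ht hn y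
    have := h1 a ha y hy
    rwa [mem_W.1 e] at this
  · exact .inr (top_le_iff.1 (h.ge.trans inf_le_left))

end Cfsg.Lib.BinAff
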