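/-
Binary affine permutation groups: identification of the anisotropic plane.
-/
import Cfsg.Agent.Lib.BinAff.D
import Mathlib.RingTheory.LittleWedderburn

set_option autoImplicit false

namespace Cfsg.Lib.BinAff

variable {G V : Type*} [Group G] [AddCommGroup V] [DistribMulAction G V] [FaithfulSMul G V] [Finite G] [Finite V]
  (H : Ext G V) (hirr : ∀ M : AddSubgroup V, (∀ g : G, ∀ v ∈ M, g • v ∈ M) → M = ⊥ ∨ M = ⊤)
include H hirr

theorem plane {s t : G} (hs : Mx V s) (ht : Mx V t) (hn : s * t ≠ t * s) :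
    ∃ (F E : Type) (_ : Field F) (_ : Fintype F) (_ : Field E) (_ : Fintype E) (_ : Algebra F E) (ε : V ≃+ E),
      Module.finrank F E = 2 ∧
      (∀ g : G, ∃ (a : E) (φ : E ≃ₐ[F] E), Algebra.norm F a = 1 ∧ ∀ v, ε (g • v) = a * φ (ε v)) ∧
      ∀ (a : E) (φ : E ≃ₐ[F] E), Algebra.norm F a = 1 → ∃ g : G, ∀ v, ε (g • v) = a * φ (ε v) := by
  let ρ := DistribMulAction.toAddMonoidEnd G V
  let R := Subring.centralizer (ρ '' {g | ¬ Mx V g})
  have mR : ∀ x, x ∈ R ↔ ∀ g, ¬ Mx V g → ρ g * x = x * ρ g := fun x => by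
    simp only [R, Subring.mem_centralizer_iff, Set.forall_mem_image, Set.mem_setOf_eq]
  have hρ : ∀ g, ¬ Mx V g → ρ g ∈ R := fun g hg => (mR _).2 fun k hk => by
    rw [← map_mul, ← map_mul, comm_not_mx H hirr hs ht hn hk hg]
  have inj : ∀ x ∈ R, ∀ v : V, x v = 0 → x = 0 ∨ v = 0 := fun x hx v hv => by
    rcases irr_not_mx H hirr hs ht hn (AddMonoidHom.ker x) (fun g hg w hw => by
      have h1 : g • x w = x (g • w) := DFunLike.congr_fun ((mR x).1 hx g hg) w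
      have h2 : x w = 0 := hw
      change x (g • w) = 0
      rw [← h1, h2, smul_zero]) with h | h
    · exact .inr (AddSubgroup.mem_bot.1 (h.le hv))
    · exact .inl (AddMonoidHom.ext fun w => h.ge (AddSubgroup.mem_top w))
  obtain ⟨u, hu, h0⟩ := exists_mem_W H hs ht hn hs
  let ev : R →+ V := { toFun x := x.1 u, map_zero' := rfl, map_add' _ _ := rfl }
  have e1 : Function.Injective ev := (injective_iff_map_eq_zero ev).2 fun x hx =>
    Subtype.ext ((inj x x.2 u hx).resolve_right h0)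
  have e2 : Function.Surjective ev := AddMonoidHom.range_eq_top.1 ((irr_not_mx H hirr hs ht hn ev.range (by
    rintro g hg _ ⟨x, rfl⟩
    exact ⟨⟨ρ g, hρ g hg⟩ * x, rfl⟩)).resolve_left fun h => h0 (AddSubgroup.mem_bot.1 (h.le ⟨1, rfl⟩)))
  have : Finite R := Finite.of_injective ev e1
  have : Nontrivial R := ⟨0, 1, fun h => h0 (congrArg ev h).symm⟩
  have : NoZeroDivisors R := ⟨fun {x y} h => (inj x x.2 (y.1 u) (congrArg ev h)).imp Subtype.ext fun h => e1 h⟩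
  have : IsDomain R := NoZeroDivisors.to_isDomain R
  letI : Field R := (Finite.isDomain_to_isField R).toField
  have ss : ρ s * ρ s = 1 := by rw [← map_mul, hs.sq H, map_one]
  have ni : ∀ g : G, ¬ Mx V g → ¬ Mx V g⁻¹ := fun g hg h => hg (by rwa [← inv_inv g, h.inv H])
  have cj : ∀ g : G, ¬ Mx V g → ρ s * ρ g * ρ s = ρ g⁻¹ := fun g hg => by
    rw [← map_mul, ← map_mul, conj_eq_inv H hirr hs ht hn hg hs]
  have tm : ∀ x ∈ R, ρ s * x * ρ s ∈ R := fun x hx => (mR _).2 fun g hg => by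
    have h1 := cj _ (ni g hg)
    rw [inv_inv] at h1
    rw [← h1]
    calc _ = ρ s * ρ g⁻¹ * (ρ s * ρ s) * x * ρ s := by simp only [mul_assoc]
      _ = ρ s * (ρ g⁻¹ * x) * ρ s := by rw [ss, mul_one, mul_assoc (ρ s)]
      _ = ρ s * x * (ρ s * ρ s) * ρ g⁻¹ * ρ s := by rw [(mR x).1 hx _ (ni g hg), ss, mul_one, mul_assoc (ρ s) x]
      _ = _ := by simp only [mul_assoc]
  have tt : ∀ x : AddMonoid.End V, ρ s * (ρ s * x * ρ s) * ρ s = x := fun x => by
    rw [← mul_assoc, ← mul_assoc, ss, one_mul, mul_assoc, ss, mul_one]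
  let τ : R ≃+* R :=
    { toFun x := ⟨_, tm x x.2⟩
      invFun x := ⟨_, tm x x.2⟩
      left_inv x := Subtype.ext (tt x)
      right_inv x := Subtype.ext (tt x)
      map_mul' x y := Subtype.ext (show ρ s * (x.1 * y.1) * ρ s = ρ s * x.1 * ρ s * (ρ s * y.1 * ρ s) by
        rw [mul_assoc _ (ρ s), ← mul_assoc (ρ s) _ (ρ s), ← mul_assoc (ρ s) (ρ s), ss, one_mul]; simp only [mul_assoc])
      map_add' x y := Subtype.ext (show ρ s * (x.1 + y.1) * ρ s = ρ s * x.1 * ρ s + ρ s * y.1 * ρ s by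
        rw [mul_add, add_mul]) }
  have hτ : ∀ x, τ (τ x) = x := fun x => Subtype.ext (tt x)
  have nst := not_mx_mul H hirr hs ht hn hs ht
  have hne : ∃ x, τ x ≠ x := ⟨⟨_, hρ _ nst⟩, fun h => hn (eq_of_smul_eq_smul (α := V) fun v => by
    have := DFunLike.congr_fun ((cj _ nst).symm.trans (congrArg Subtype.val h)) v
    rw [mul_inv_rev, hs.inv H, ht.inv H] at this
    exact this.symm)⟩
  obtain ⟨F, E, i1, i2, i3, i4, i5, e, h1, h2, φ₀, h3, h4⟩ := final_field τ hτ hne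
  have a1 : ∀ g (hg : ¬ Mx V g) x, g • ev x = ev (⟨ρ g, hρ g hg⟩ * x) := fun _ _ _ => rfl
  have a2 : ∀ x, s • ev x = ev (τ x) := fun x => by
    change _ = s • x.1 (s • u)
    rw [mem_W.1 hu]; rfl
  have a3 : ∀ g (hg : Mx V g) x, g • ev x = ev (⟨ρ (g * s), hρ _ (not_mx_mul H hirr hs ht hn hg hs)⟩ * τ x) :=
    fun g hg x => by rw [← a1 _ (not_mx_mul H hirr hs ht hn hg hs), ← a2, ← mul_smul, mul_assoc, hs.sq H, mul_one]
  have a4 : ∀ g (hg : ¬ Mx V g), Algebra.norm F (e ⟨ρ g, hρ g hg⟩) = 1 := fun g hg => (h2 _).2 (Subtype.ext (by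
    change ρ g * (ρ s * ρ g * ρ s) = 1
    rw [cj g hg, ← map_mul, mul_inv_cancel, map_one]))
  let ε : V ≃+ E := (AddEquiv.ofBijective ev ⟨e1, e2⟩).symm.trans e.toAddEquiv
  have hε : ∀ x, ε (ev x) = e x := fun x => congrArg e ((AddEquiv.ofBijective ev ⟨e1, e2⟩).symm_apply_apply x)
  refine ⟨F, E, i1, i2, i3, i4, i5, ε, h1, fun g => ?_, fun a φ ha => ?_⟩
  · by_cases hg : Mx V g
    · exact ⟨_, φ₀, a4 _ (not_mx_mul H hirr hs ht hn hg hs), fun v => by
        obtain ⟨x, rfl⟩ := e2 v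
        rw [a3 g hg, hε, hε, h3, map_mul]⟩
    · exact ⟨_, 1, a4 g hg, fun v => by
        obtain ⟨x, rfl⟩ := e2 v
        rw [a1 g hg, hε, hε, map_mul, AlgEquiv.one_apply]⟩
  obtain ⟨a, rfl⟩ := e.surjective a
  rw [h2] at ha
  obtain ⟨y, y0, hy⟩ : ∃ y, y ≠ 0 ∧ a * τ y = y := by
    by_cases h : 1 + a = 0
    · obtain ⟨x, hx⟩ := hne
      exact ⟨x - τ x, sub_ne_zero.2 hx.symm, by rw [eq_neg_of_add_eq_zero_right h, map_sub, hτ]; ring⟩
    · exact ⟨1 + a, h, by rw [map_add, map_one, mul_add, ha, mul_one, add_comm]⟩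
  obtain ⟨b, hb, -, b1⟩ := pencil H hs ht hn (ev y)
  have b2 := e1 ((a3 b hb y).symm.trans b1)
  have b3 := mul_right_cancel₀ ((map_ne_zero_iff τ τ.injective).2 y0) (b2.trans hy.symm)
  rcases h4 φ with rfl | rfl
  · exact ⟨b * s, fun v => by
      obtain ⟨x, rfl⟩ := e2 v
      rw [a1 _ (not_mx_mul H hirr hs ht hn hb hs), hε, hε, map_mul, b3, AlgEquiv.one_apply]⟩
  · exact ⟨b, fun v => by
      obtain ⟨x, rfl⟩ := e2 v
      rw [a3 b hb, hε, hε, map_mul, b3, h3]⟩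

theorem main [Nontrivial V] : ((Nat.card V).Prime ∧ Nat.card G ≤ 2) ∨
    ∃ (F E : Type) (_ : Field F) (_ : Fintype F) (_ : Field E) (_ : Fintype E) (_ : Algebra F E) (ε : V ≃+ E),
      Module.finrank F E = 2 ∧
      (∀ g : G, ∃ (a : E) (φ : E ≃ₐ[F] E), Algebra.norm F a = 1 ∧ ∀ v, ε (g • v) = a * φ (ε v)) ∧
      ∀ (a : E) (φ : E ≃ₐ[F] E), Algebra.norm F a = 1 → ∃ g : G, ∀ v, ε (g • v) = a * φ (ε v) := by
  by_cases h : ∀ s t : G, Mx V s → Mx V t → s * t = t * s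
  · exact .inl (degenerate' H hirr h)
  · push Not at h
    obtain ⟨s, t, hs, ht, hn⟩ := h
    exact .inr (plane H hirr hs ht hn)

end Cfsg.Lib.BinAff
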